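import Mathlib.RingTheory.Length
import Mathlib.RingTheory.WittVector.DiscreteValuationRing
import Mathlib.Algebra.Module.PID
import Mathlib.RingTheory.Artinian.Module

/-!
# Filtrations with a bijective glued Frobenius
-/

set_option autoImplicit false

universe u v

open Pointwise

namespace Groth.Agent.FonLafLib

/-- A semilinear surjection cannot increase the length. -/
theorem length_le_of_semilinear {R : Type u} [CommRing R] {σ : R →+* R} [RingHomSurjective σ]
    {Y M : Type v} [AddCommGroup Y] [Module R Y] [AddCommGroup M] [Module R M]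
    (Φ : Y →ₛₗ[σ] M) (U : Submodule R Y) (hker : LinearMap.ker Φ ≤ U) :
    Module.length R (Y ⧸ U) ≤ Module.length R M := by
  rw [← WithBot.coe_le_coe, Module.coe_length, Module.coe_length]
  refine Order.krullDim_le_of_strictMono
    (fun S : Submodule R (Y ⧸ U) => (S.comap U.mkQ).map Φ) fun S T h => ?_
  have hmono : (S.comap U.mkQ).map Φ ≤ (T.comap U.mkQ).map Φ :=
    Submodule.map_mono (Submodule.comap_mono h.le)
  refine lt_of_le_of_ne hmono fun he => h.ne ?_
  have key : ∀ S : Submodule R (Y ⧸ U), ((S.comap U.mkQ).map Φ).comap Φ = S.comap U.mkQ := fun S => by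
    rw [Submodule.comap_map_eq, sup_eq_left]
    exact hker.trans fun y hy => by
      rw [Submodule.mem_comap, Submodule.mkQ_apply, (Submodule.Quotient.mk_eq_zero U).2 hy]
      exact zero_mem S
  apply Submodule.comap_injective_of_surjective U.mkQ_surjective
  simp only at he
  rw [← key S, ← key T, he]

section

variable {R : Type u} [CommRing R] {σ : R →+* R} [RingHomSurjective σ] (π : R) (r : ℕ)
  {N : ℕ → Type v} [∀ i, AddCommGroup (N i)] [∀ i, Module R (N i)]
  (α : ∀ i, N (i + 1) →ₗ[R] N i) (φ : ∀ i, N i →ₛₗ[σ] N 0)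

/-- The glued Frobenius is surjective and its kernel comes from `ι`. -/
def IsGlued : Prop :=
  (∀ m : N 0, ∃ y : (i : ℕ) → N i, (∀ i, r < i → y i = 0) ∧
      (Finset.range (r + 1)).sum (fun i => φ i (y i)) = m) ∧
  ∀ y : (i : ℕ) → N i, (∀ i, r < i → y i = 0) →
      (Finset.range (r + 1)).sum (fun i => φ i (y i)) = 0 →
        ∃ z : (i : ℕ) → N (i + 1), (∀ i, r ≤ i → z i = 0) ∧
          y 0 = α 0 (z 0) ∧ ∀ i, y (i + 1) = α (i + 1) (z (i + 1)) - π • z i

variable {π r α φ}

/-- Extension by zero of a family indexed by `Fin r`. -/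
def extend0 (z : (i : Fin r) → N (i + 1)) (i : ℕ) : N (i + 1) :=
  if h : i < r then z ⟨i, h⟩ else 0

/-- The map `ι` has trivial kernel. -/
theorem IsGlued.injective (hfl : ∀ i, IsFiniteLength R (N i)) (hg : IsGlued π r α φ)
    (z : (i : ℕ) → N (i + 1)) (hz : ∀ i, r ≤ i → z i = 0) (h0 : α 0 (z 0) = 0)
    (hs : ∀ i, α (i + 1) (z (i + 1)) - π • z i = 0) : ∀ i, z i = 0 := by
  let extL : ((i : Fin r) → N (i + 1)) →ₗ[R] ((i : ℕ) → N (i + 1)) :=
    { toFun := fun a => extend0 (N := N) a
      map_add' := fun a b => by funext i; simp only [extend0, Pi.add_apply]; split <;> simp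
      map_smul' := fun c a => by funext i; simp only [extend0, Pi.smul_apply, RingHom.id_apply]; split <;> simp }
  let ι : ((i : Fin r) → N (i + 1)) →ₗ[R] N 0 × ((i : Fin r) → N (i + 1)) :=
    LinearMap.prod ((α 0).comp ((LinearMap.proj 0).comp extL))
      (LinearMap.pi fun j => (α (j + 1)).comp ((LinearMap.proj ((j : ℕ) + 1)).comp extL) -
        π • (LinearMap.proj (j : ℕ)).comp extL)
  let Φ : N 0 × ((i : Fin r) → N (i + 1)) →ₛₗ[σ] N 0 :=
    { toFun := fun y => φ 0 y.1 + ∑ j : Fin r, φ (j + 1) (y.2 j)
      map_add' := fun a b => by simp [Finset.sum_add_distrib, add_add_add_comm]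
      map_smul' := fun c a => by simp [Finset.smul_sum] }
  have hker : LinearMap.ker Φ ≤ LinearMap.range ι := by
    rintro ⟨m, x⟩ hy
    let y : (i : ℕ) → N i := fun i => match i with
      | 0 => m
      | i + 1 => extend0 x i
    have hy0 : ∀ i, r < i → y i = 0 := by
      rintro (_ | i) hi
      · omega
      · show extend0 x i = 0
        rw [extend0, dif_neg (by omega)]
    obtain ⟨w, hw, hw0, hw1⟩ := hg.2 y hy0 (by
      rw [Finset.sum_range_succ', add_comm, Finset.sum_range]
      have : φ 0 m + ∑ j : Fin r, φ (j + 1) (x j) = 0 := hy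
      simpa [y, extend0] using this)
    have hext : extL (fun j : Fin r => w j) = w := by
      funext i
      show extend0 (N := N) (fun j : Fin r => w j) i = w i
      rw [extend0]
      split
      · rfl
      · exact (hw i (by omega)).symm
    refine ⟨fun j => w j, ?_⟩
    ext1
    · simpa [ι, hext] using hw0.symm
    · funext j
      have := hw1 (j : ℕ)
      simp only [y, extend0, dif_pos j.isLt] at this
      simpa [ι, hext] using this.symm
  have hsurjΦ : Module.length R ((N 0 × ((i : Fin r) → N (i + 1))) ⧸ LinearMap.range ι) ≤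
      Module.length R (N 0) := length_le_of_semilinear Φ _ hker
  have hfin : ∀ i, IsNoetherian R (N i) ∧ IsArtinian R (N i) := fun i =>
    isFiniteLength_iff_isNoetherian_isArtinian.1 (hfl i)
  haveI := fun i => (hfin i).1
  haveI := fun i => (hfin i).2
  have hinj : LinearMap.ker ι = ⊥ := by
    have h1 := Module.length_eq_add_of_exact (LinearMap.ker ι).subtype ι.rangeRestrict
      (Submodule.subtype_injective _) ι.surjective_rangeRestrict
      (LinearMap.exact_iff.2 (by rw [LinearMap.ker_rangeRestrict, Submodule.range_subtype]))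
    have h2 := Module.length_eq_add_of_exact (LinearMap.range ι).subtype (LinearMap.range ι).mkQ
      (Submodule.subtype_injective _) (Submodule.mkQ_surjective _) (LinearMap.exact_subtype_mkQ _)
    rw [Module.length_prod] at h2
    have hne : Module.length R ((i : Fin r) → N (i + 1)) ≠ ⊤ := Module.length_ne_top
    have hne0 : Module.length R (N 0) ≠ ⊤ := Module.length_ne_top
    obtain ⟨a, ha⟩ := ENat.ne_top_iff_exists.1 hne
    obtain ⟨b, hb⟩ := ENat.ne_top_iff_exists.1 hne0
    rw [← ha] at h1 h2
    rw [← hb] at h2 hsurjΦ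
    generalize hk : Module.length R (LinearMap.ker ι) = k at h1
    generalize hi : Module.length R (LinearMap.range ι) = i at h1 h2
    generalize hc : Module.length R ((N 0 × ((i : Fin r) → N (i + 1))) ⧸ LinearMap.range ι) = c
      at h2 hsurjΦ
    have hk0 : k = 0 := by
      cases k with
      | top => simp at h1
      | coe k =>
        cases i with
        | top => simp at h1
        | coe i =>
          cases c with
          | top => simp at hsurjΦ
          | coe c =>
            norm_cast at h1 h2 hsurjΦ ⊢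
            omega
    rw [hk0] at hk
    have := Module.length_eq_zero_iff.1 hk
    exact (Submodule.subsingleton_iff_eq_bot).1 this
  have hext : extL (fun j : Fin r => z j) = z := by
    funext i
    show extend0 (N := N) (fun j : Fin r => z j) i = z i
    rw [extend0]
    split
    · rfl
    · exact (hz i (by omega)).symm
  have hzero : (fun j : Fin r => z j) = 0 := by
    rw [← Submodule.mem_bot R, ← hinj, LinearMap.mem_ker]
    ext1
    · simpa [ι, hext] using h0
    · funext j
      simpa [ι, hext] using hs (j : ℕ)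
  intro i
  by_cases h : i < r
  · exact congrFun hzero ⟨i, h⟩
  · exact hz i (by omega)

/-- `α` is injective modulo every power of `π`. -/
theorem IsGlued.mem_of_apply_mem (hfl : ∀ i, IsFiniteLength R (N i))
    (hφ : ∀ i, i < r → ∀ y : N (i + 1), φ i (α i y) = π • φ (i + 1) y)
    (hg : IsGlued π r α φ) (hσ : σ π = π) : ∀ (n : ℕ) (i : ℕ), i < r → ∀ (x : N (i + 1)),
      (∃ y : N i, π ^ n • y = α i x) → ∃ x' : N (i + 1), π ^ n • x' = x := by
  intro n
  induction n with
  | zero => exact fun i _ x _ => ⟨x, by simp⟩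
  | succ n ih =>
    rintro i hi x ⟨y, hy⟩
    let N' : ℕ → Type v := fun j => N j ⧸ ((π ^ (n + 1)) • (⊤ : Submodule R (N j)))
    let α' : ∀ j, N' (j + 1) →ₗ[R] N' j := fun j => Submodule.mapQ _ _ (α j) (by
      intro t ht
      obtain ⟨s, -, rfl⟩ := (Submodule.mem_smul_pointwise_iff_exists _ _ _).1 ht
      exact (Submodule.mem_smul_pointwise_iff_exists _ _ _).2 ⟨α j s, trivial, by simp⟩)
    let φ' : ∀ j, N' j →ₛₗ[σ] N' 0 := fun j => Submodule.mapQ _ _ (φ j) (by
      intro t ht
      obtain ⟨s, -, rfl⟩ := (Submodule.mem_smul_pointwise_iff_exists _ _ _).1 ht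
      exact (Submodule.mem_smul_pointwise_iff_exists _ _ _).2 ⟨φ j s, trivial, by simp [hσ]⟩)
    have hfl' : ∀ j, IsFiniteLength R (N' j) := fun j =>
      (hfl j).of_surjective (f := Submodule.mkQ _) (Submodule.mkQ_surjective _)
    have hg' : IsGlued π r α' φ' := by
      constructor
      · intro m
        obtain ⟨m, rfl⟩ := Submodule.Quotient.mk_surjective _ m
        obtain ⟨w, hw, hwm⟩ := hg.1 m
        refine ⟨fun j => Submodule.Quotient.mk (w j), fun j hj => by simp [hw j hj, N'], ?_⟩
        rw [← hwm]
        simp [φ', N', ← Submodule.mkQ_apply, map_sum]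
        exact Finset.sum_congr rfl fun _ _ => rfl
      · intro w hw hsum
        classical
        choose w' hw' using fun j => Submodule.Quotient.mk_surjective _ (w j)
        let w'' : (j : ℕ) → N j := fun j => if r < j then 0 else w' j
        have hw'' : ∀ j, Submodule.Quotient.mk (w'' j) = w j := fun j => by
          by_cases hj : r < j
          · simp only [w'', if_pos hj, hw j hj]; rfl
          · simp only [w'', if_neg hj, hw']
        have hmem : (Finset.range (r + 1)).sum (fun j => φ j (w'' j)) ∈
            π ^ (n + 1) • (⊤ : Submodule R (N 0)) := by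
          rw [← Submodule.Quotient.mk_eq_zero, ← hsum]
          simp only [← Submodule.mkQ_apply, map_sum]
          refine Finset.sum_congr rfl fun j _ => ?_
          rw [← hw'' j]
          rfl
        obtain ⟨m, -, hm⟩ := (Submodule.mem_smul_pointwise_iff_exists _ _ _).1 hmem
        obtain ⟨v, hv, hvm⟩ := hg.1 m
        obtain ⟨z, hz, hz0, hz1⟩ := hg.2 (fun j => w'' j - π ^ (n + 1) • v j)
          (fun j hj => by simp [w'', hj, hv j hj]) (by
            simp only [map_sub, map_smulₛₗ, map_pow, hσ, Finset.sum_sub_distrib, ← Finset.smul_sum, hvm, hm,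
              sub_self])
        refine ⟨fun j => Submodule.Quotient.mk (z j), fun j hj => by simp [hz j hj, N'], ?_, fun j => ?_⟩
        · rw [← hw'' 0]
          show _ = Submodule.Quotient.mk (α 0 (z 0))
          rw [← hz0, Submodule.Quotient.eq, sub_sub_cancel]
          exact Submodule.smul_mem_pointwise_smul _ _ _ trivial
        · rw [← hw'' (j + 1)]
          show _ = Submodule.Quotient.mk (α (j + 1) (z (j + 1))) - π • Submodule.Quotient.mk (z j)
          rw [← Submodule.Quotient.mk_smul, ← Submodule.Quotient.mk_sub, ← hz1 j, Submodule.Quotient.eq,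
            sub_sub_cancel]
          exact Submodule.smul_mem_pointwise_smul _ _ _ trivial
    obtain ⟨x₀, hx₀⟩ := ih i hi x ⟨π • y, by rw [smul_smul, ← pow_succ, hy]⟩
    have hπx : (Submodule.Quotient.mk (π • x) : N' (i + 1)) = 0 := by
      rw [Submodule.Quotient.mk_eq_zero, ← hx₀, smul_smul, ← pow_succ']
      exact Submodule.smul_mem_pointwise_smul _ _ _ trivial
    have hαx : (Submodule.Quotient.mk (α i x) : N' i) = 0 := by
      rw [Submodule.Quotient.mk_eq_zero, ← hy]
      exact Submodule.smul_mem_pointwise_smul _ _ _ trivial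
    let z : (j : ℕ) → N' (j + 1) := fun j =>
      if h : j = i then h ▸ Submodule.Quotient.mk x else 0
    have hzi : z i = Submodule.Quotient.mk x := by simp [z]
    have hzne : ∀ j, j ≠ i → z j = 0 := fun j hj => by simp [z, hj]
    have hall := hg'.injective hfl' z (fun j hj => hzne j (by omega))
      (by
        by_cases h : 0 = i
        · subst h; rw [hzi]; exact hαx
        · rw [hzne 0 h, map_zero])
      (fun j => by
        have e1 : α' (j + 1) (z (j + 1)) = 0 := by
          by_cases h : j + 1 = i
          · subst h; rw [hzi]; exact hαx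
          · rw [hzne _ h, map_zero]
        have e2 : π • z j = 0 := by
          by_cases h : j = i
          · subst h; rw [hzi, ← Submodule.Quotient.mk_smul]; exact hπx
          · rw [hzne _ h, smul_zero]
        rw [e1, e2, sub_zero]) i
    rw [hzi, Submodule.Quotient.mk_eq_zero] at hall
    obtain ⟨x', -, hx'⟩ := (Submodule.mem_smul_pointwise_iff_exists _ _ _).1 hall
    exact ⟨x', hx'⟩

end

/-- A pure submodule of a finitely generated `p`-power torsion module is a direct summand. -/
theorem exists_isCompl_of_pure {R : Type u} [CommRing R] [IsDomain R] [IsPrincipalIdealRing R] {π : R}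
    (hπ : Irreducible π) {M : Type v} [AddCommGroup M] [Module R M] [Module.Finite R M]
    (hM : ∀ x : M, ∃ n : ℕ, π ^ n • x = 0) (A : Submodule R M)
    (hpure : ∀ (n : ℕ) (y : M), π ^ n • y ∈ A → ∃ a ∈ A, π ^ n • a = π ^ n • y) :
    ∃ Q : Submodule R M, IsCompl A Q := by
  classical
  have htors : Module.IsTorsion' (M ⧸ A) (Submonoid.powers π) := by
    rw [Submodule.isTorsion'_powers_iff]
    intro x
    obtain ⟨x, rfl⟩ := Submodule.Quotient.mk_surjective _ x
    obtain ⟨n, hn⟩ := hM x
    exact ⟨n, by rw [← Submodule.Quotient.mk_smul, hn, Submodule.Quotient.mk_zero]⟩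
  obtain ⟨d, k, ⟨f⟩⟩ := Module.torsion_by_prime_power_decomposition hπ htors
  have hlift : ∀ i : Fin d, ∃ x : M, π ^ k i • x = 0 ∧
      f (Submodule.Quotient.mk x) = DirectSum.lof R _ (fun i => R ⧸ R ∙ π ^ k i) i 1 := by
    intro i
    obtain ⟨y, hy⟩ := Submodule.Quotient.mk_surjective A
      (f.symm (DirectSum.lof R _ (fun i => R ⧸ R ∙ π ^ k i) i 1))
    have hyA : π ^ k i • y ∈ A := by
      rw [← Submodule.Quotient.mk_eq_zero, Submodule.Quotient.mk_smul, hy, ← map_smul, ← map_smul]
      rw [show π ^ k i • (1 : R ⧸ R ∙ π ^ k i) = 0 from by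
        rw [← map_one (Ideal.Quotient.mk (R ∙ π ^ k i)), ← Ideal.Quotient.mk_eq_mk,
          ← Submodule.Quotient.mk_smul, Submodule.Quotient.mk_eq_zero, smul_eq_mul, mul_one]
        exact Submodule.mem_span_singleton_self _, map_zero, map_zero]
    obtain ⟨a, ha, hay⟩ := hpure (k i) y hyA
    refine ⟨y - a, by rw [smul_sub, hay, sub_self], ?_⟩
    rw [Submodule.Quotient.mk_sub, (Submodule.Quotient.mk_eq_zero A).2 ha, sub_zero, hy,
      LinearEquiv.apply_symm_apply]
  choose x hx0 hx1 using hlift
  have hx0' : ∀ i, LinearMap.toSpanSingleton R M (x i) (π ^ k i) = 0 := hx0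
  let s : M ⧸ A →ₗ[R] M := (DirectSum.toModule R _ M fun i =>
    Submodule.liftQSpanSingleton (π ^ k i) (LinearMap.toSpanSingleton R M (x i)) (hx0' i)).comp f.toLinearMap
  have hs : A.mkQ.comp s = LinearMap.id := by
    have h1 : f.toLinearMap.comp (A.mkQ.comp (DirectSum.toModule R _ M fun i =>
        Submodule.liftQSpanSingleton (π ^ k i) (LinearMap.toSpanSingleton R M (x i)) (hx0' i))) =
        LinearMap.id := by
      ext i : 3
      simp only [LinearMap.coe_comp, Function.comp_apply, Submodule.mkQ_apply]
      rw [LinearEquiv.coe_toLinearMap, LinearMap.id_apply, DirectSum.toModule_lof,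
        Submodule.liftQSpanSingleton_apply, LinearMap.toSpanSingleton_apply_one, Ideal.Quotient.mk_eq_mk,
        map_one (Ideal.Quotient.mk _), hx1 i]
    refine LinearMap.ext fun q => f.injective ?_
    have := LinearMap.congr_fun h1 (f q)
    simpa [s] using this
  refine ⟨LinearMap.range s, ?_⟩
  constructor
  · rw [Submodule.disjoint_def]
    rintro - hA ⟨q, rfl⟩
    have := LinearMap.congr_fun hs q
    rw [LinearMap.comp_apply, Submodule.mkQ_apply, (Submodule.Quotient.mk_eq_zero A).2 hA] at this
    rw [show q = 0 from this.symm, map_zero]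
  · rw [codisjoint_iff, eq_top_iff]
    intro m _
    refine Submodule.mem_sup.2 ⟨m - s (A.mkQ m), ?_, s (A.mkQ m), ⟨_, rfl⟩, sub_add_cancel _ _⟩
    have := LinearMap.congr_fun hs (A.mkQ m)
    rw [← Submodule.Quotient.mk_eq_zero, Submodule.Quotient.mk_sub]
    exact sub_eq_zero.2 this.symm

/-- In a finite length module over a discrete valuation ring every element is killed by a power of
the uniformizer. -/
theorem exists_pow_smul_eq_zero {R : Type u} [CommRing R] {π : R}
    (hπ : ∀ a : R, a ≠ 0 → ∃ (m : ℕ) (b : Rˣ), a = π ^ m * b) (hπu : ¬ IsUnit π)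
    {M : Type v} [AddCommGroup M] [Module R M] (hfl : IsFiniteLength R M) (x : M) :
    ∃ n : ℕ, π ^ n • x = 0 := by
  obtain ⟨-, _⟩ := isFiniteLength_iff_isNoetherian_isArtinian.1 hfl
  obtain ⟨n, hn⟩ := IsArtinian.monotone_stabilizes (R := R) (M := M)
    ⟨fun n => OrderDual.toDual (Submodule.span R {π ^ n • x}), fun a b hab => by
      show Submodule.span R {π ^ b • x} ≤ Submodule.span R {π ^ a • x}
      rw [Submodule.span_singleton_le_iff_mem, Submodule.mem_span_singleton]
      exact ⟨π ^ (b - a), by rw [smul_smul, ← pow_add, Nat.sub_add_cancel hab]⟩⟩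
  have h1 : Submodule.span R {π ^ n • x} = Submodule.span R {π ^ (n + 1) • x} := hn (n + 1) (by omega)
  obtain ⟨c, hc⟩ := Submodule.mem_span_singleton.1 (h1 ▸ Submodule.mem_span_singleton_self (π ^ n • x))
  refine ⟨n, ?_⟩
  have hu : IsUnit (1 - c * π) := by
    by_cases h0 : (1 - c * π) = 0
    · exact absurd (IsUnit.of_mul_eq_one c (by rw [mul_comm]; exact (sub_eq_zero.1 h0).symm)) hπu
    · obtain ⟨m, b, hb⟩ := hπ _ h0
      rcases m with - | m
      · simp [hb]
      · refine absurd (IsUnit.of_mul_eq_one (c + π ^ m * b) ?_) hπu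
        linear_combination -hb
  have : (1 - c * π) • π ^ n • x = 0 := by
    rw [sub_smul, one_smul, mul_smul, smul_smul π, ← pow_succ', hc, sub_self]
  exact hu.smul_eq_zero.1 this

end Groth.Agent.FonLafLib
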